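import Groth.Agent.CohFinite.Linear
import Groth.Agent.Lich.Support
import Groth.Agent.QC.Closure
import Groth.Agent.LCZ.Supp
import Groth.Agent.S2249
import Groth.Agent.S4340
import Groth.Prelude.Def_Canon

/-!
A `1`-dualizing sheaf of a proper relative curve over a discrete valuation ring extends across
finitely many closed points.
-/

set_option autoImplicit false
set_option backward.isDefEq.respectTransparency false

universe u

open CategoryTheory CategoryTheory.Limits AlgebraicGeometry TopologicalSpace Opposite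

noncomputable section

namespace Groth.Agent.DualHartogs

open Groth.Agent.CohQC (toAbF)
open Groth.Agent.CohFinite (hhMap hhδ shortExact_toAb)

variable {X : Scheme.{u}} (U : X.Opens) (ω : X.Modules)

/-- Restriction to an open, pushed forward. -/
abbrev ext : X.Modules :=
  (Scheme.Modules.pushforward U.ι).obj ((Scheme.Modules.restrictFunctor U.ι).obj ω)

/-- The restriction map. -/
abbrev toExt : ω ⟶ ext U ω := (Scheme.Modules.restrictAdjunction U.ι).unit.app ω

theorem toExt_app_bijective {W : X.Opens} (hW : W ≤ U) :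
    Function.Bijective ((toExt U ω).app W) := by
  rw [Scheme.Modules.restrictAdjunction_unit_app_app]
  have e : U.ι ''ᵁ U.ι ⁻¹ᵁ W = W := by
    rw [Scheme.Hom.image_preimage_eq_opensRange_inf, Scheme.Opens.opensRange_ι]
    exact inf_eq_right.2 hW
  have h : (homOfLE (U.ι.image_preimage_le W)).op = eqToHom (congrArg op e.symm) :=
    Subsingleton.elim _ _
  rw [h, eqToHom_map]
  exact ConcreteCategory.bijective_of_isIso _

instance isIso_restrict_toExt :
    IsIso ((Scheme.Modules.restrictFunctor U.ι).map (toExt U ω)) := by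
  have h := (Scheme.Modules.restrictAdjunction U.ι).left_triangle_components ω
  have : IsIso ((Scheme.Modules.restrictAdjunction U.ι).counit.app
      ((Scheme.Modules.restrictFunctor U.ι).obj ω)) := inferInstance
  exact IsIso.of_isIso_fac_right h

/-- An endomorphism of the extension that vanishes on the original sheaf is zero. -/
theorem eq_zero_of_toExt_comp {d : ext U ω ⟶ ext U ω} (hd : toExt U ω ≫ d = 0) : d = 0 := by
  have h : (Scheme.Modules.restrictFunctor U.ι).map (toExt U ω) ≫
      (Scheme.Modules.restrictFunctor U.ι).map d = 0 := by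
    rw [← Functor.map_comp, hd, Functor.map_zero]
  have hi := isIso_restrict_toExt U ω
  have h2 : (Scheme.Modules.restrictFunctor U.ι).map d = 0 := by
    have := congrArg (fun z => (@CategoryTheory.inv _ _ _ _
      ((Scheme.Modules.restrictFunctor U.ι).map (toExt U ω)) hi) ≫ z) h
    simpa only [IsIso.inv_hom_id_assoc, comp_zero] using this
  apply ((Scheme.Modules.restrictAdjunction U.ι).homEquiv (ext U ω)
    ((Scheme.Modules.restrictFunctor U.ι).obj ω)).symm.injective
  rw [Adjunction.homEquiv_counit, Adjunction.homEquiv_counit, h2, Functor.map_zero]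

theorem app_injective_of_mono {A B : X.Modules} (φ : A ⟶ B) [Mono φ] (W : X.Opens) :
    Function.Injective (φ.app W) :=
  LCZ.app_injective_of_mono ((toAbF X).map φ) W

theorem support_kernel_subset : CohB1.support (kernel (toExt U ω)) ⊆ (U : Set X)ᶜ := by
  intro x hx hxU
  refine hx ⟨fun a b => ?_⟩
  have key : ∀ v : (kernel (toExt U ω)).presheaf.stalk x, v = 0 := by
    intro v
    obtain ⟨W, hxW, s, rfl⟩ := (kernel (toExt U ω)).presheaf.exists_germ_eq (x := x) v
    let r : W ⊓ U ⟶ W := homOfLE inf_le_left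
    rw [← TopCat.Presheaf.germ_res_apply _ r x ⟨hxW, hxU⟩ s]
    have h0 : ((kernel (toExt U ω)).presheaf.map r.op) s = 0 := by
      apply app_injective_of_mono (kernel.ι (toExt U ω)) (W ⊓ U)
      apply (toExt_app_bijective U ω inf_le_right).1
      rw [map_zero, map_zero, ← ConcreteCategory.comp_apply, ← Scheme.Modules.Hom.comp_app,
        kernel.condition]
      rfl
    rw [h0, map_zero]
  rw [key a, key b]

theorem support_cokernel_subset : CohB1.support (cokernel (toExt U ω)) ⊆ (U : Set X)ᶜ :=
  Lich.support_coker_subset _ U fun _ hW => (toExt_app_bijective U ω hW).2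

variable (R : Type u) [CommRing R] [IsDomain R] [IsDiscreteValuationRing R]
  [X.Over (Spec (CommRingCat.of R))] [IsProper (X ↘ Spec (CommRingCat.of R))]

theorem resTop_top (r : Coh.Γtop X) : Coh.resTop X (op ⊤) r = r := by
  change (X.ringCatSheaf.obj.map (𝟙 (op (⊤ : X.Opens)))).hom r = r
  rw [CategoryTheory.Functor.map_id]
  rfl

theorem sections_eq_zero {Q : X.Modules} (hQ : CohB1.support Q ⊆ (U : Set X)ᶜ) {W : X.Opens}
    (hW : W ≤ U) (s : Γ(Q, W)) : s = 0 := by
  refine TopCat.Presheaf.section_ext ⟨Q.presheaf, Q.isSheaf⟩ W _ _ fun x hx => ?_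
  have : Subsingleton (Q.presheaf.stalk x) := not_not.1 fun h => hQ h (hW hx)
  exact Subsingleton.elim _ _

/-- Global sections of a sheaf supported in finitely many closed points are torsion. -/
theorem exists_pow_smul_eq_zero {ϖ : R} (hϖ : Irreducible ϖ)
    (hcl : ∀ x : X, x ∉ U → IsClosed ({x} : Set X)) {Q : X.Modules} (hQ : Coh.IsQCoh Q)
    (hsupp : CohB1.support Q ⊆ (U : Set X)ᶜ) (x : Coh.HH X Q 0) :
    ∃ n : ℕ, ϖ ^ n • x = 0 := by
  set f := X ↘ Spec (CommRingCat.of R)
  have : CompactSpace X := QuasiCompact.compactSpace_of_compactSpace f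
  let g : Γ(X, ⊤) := Coh.toGlobal f ϖ
  have hle : X.basicOpen g ≤ U := by
    intro y hy
    by_contra hyU
    have h1 : IsClosed ({f y} : Set (Spec (CommRingCat.of R))) := by
      have := f.isClosedMap _ (hcl y hyU)
      rwa [Set.image_singleton] at this
    have h2 : (f y : PrimeSpectrum R) = IsLocalRing.closedPoint R :=
      PrimeSpectrum.ext (IsLocalRing.eq_maximalIdeal
        ((PrimeSpectrum.isClosed_singleton_iff_isMaximal _).1 h1))
    have h3 : f y ∈ (Spec (CommRingCat.of R)).basicOpen
        ((Scheme.ΓSpecIso (CommRingCat.of R)).inv ϖ) := by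
      rw [show g = f.appTop ((Scheme.ΓSpecIso (CommRingCat.of R)).inv ϖ) from rfl,
        ← Scheme.preimage_basicOpen_top] at hy
      exact hy
    rw [basicOpen_eq_of_affine] at h3
    apply (PrimeSpectrum.mem_basicOpen _ _).1 h3
    rw [h2]
    exact hϖ.not_isUnit
  let e := Sheaf.H.equiv₀ (Coh.toAb Q) (isTerminalTop (α := Opens X))
  have : Coh.IsQCoh Q := hQ
  obtain ⟨n, -, hn⟩ := Groth.Agent.S4340.result X g Q (e x)
    (sections_eq_zero U hsupp hle _)
  refine ⟨n, e.injective ?_⟩
  rw [map_zero]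
  change e (Sheaf.H.map (Coh.smulAb Q (Coh.toGlobal f (ϖ ^ n))) 0 x) = 0
  rw [← Sheaf.H.equiv₀_naturality, Coh.smulAb_app, map_pow]
  refine Eq.trans ?_ hn
  congr 1
  exact resTop_top (X := X) _

include R in
theorem subsingleton_H1 (hfin : ((U : Set X)ᶜ).Finite)
    (hcl : ∀ x : X, x ∉ U → IsClosed ({x} : Set X)) {Q : X.Modules}
    (hsupp : CohB1.support Q ⊆ (U : Set X)ᶜ) : Subsingleton (Coh.HH X Q 1) := by
  set f := X ↘ Spec (CommRingCat.of R)
  have : IsLocallyNoetherian X := LocallyOfFiniteType.isLocallyNoetherian f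
  have : CompactSpace X := QuasiCompact.compactSpace_of_compactSpace f
  have : AlgebraicGeometry.IsNoetherian X := {}
  refine Lich.subsingleton_hh_of_supported U.isOpen.isClosed_compl 0 ?_ Q hsupp 1 Nat.one_pos
  have : T1Space ((U : Set X)ᶜ : Set X) := ⟨fun y => by
    have h := (hcl y.1 y.2).preimage (continuous_subtype_val (p := (· ∈ (U : Set X)ᶜ)))
    convert h using 1
    ext z
    simp [Subtype.ext_iff]⟩
  have : Finite ((U : Set X)ᶜ : Set X) := hfin.to_subtype
  rcases isEmpty_or_nonempty ((U : Set X)ᶜ : Set X) with h | h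
  · have : IsEmpty (TopologicalSpace.IrreducibleCloseds ((U : Set X)ᶜ : Set X)) :=
      ⟨fun z => h.false z.2.nonempty.some⟩
    simp [topologicalKrullDim, Order.krullDim_eq_bot]
  · exact topologicalKrullDim_zero_of_discreteTopology _

theorem isIso_toExt {tr : Coh.HH X ω 1 →ₗ[R] R} (hω : Canon.IsRDualOver R X 1 ω tr)
    (hfin : ((U : Set X)ᶜ).Finite) (hcl : ∀ x : X, x ∉ U → IsClosed ({x} : Set X)) :
    IsIso (toExt U ω) := by
  obtain ⟨ϖ, hϖ⟩ := IsDiscreteValuationRing.exists_irreducible R
  set f := X ↘ Spec (CommRingCat.of R)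
  have : IsLocallyNoetherian X := LocallyOfFiniteType.isLocallyNoetherian f
  have : CompactSpace X := QuasiCompact.compactSpace_of_compactSpace f
  have : AlgebraicGeometry.IsNoetherian X := {}
  set η := toExt U ω
  have hM : Coh.IsQCoh (ext U ω) := by
    have : Coh.IsQCoh ((Scheme.Modules.restrictFunctor U.ι).obj ω) := QC.isQCoh_restrict _ hω.1
    exact Groth.Agent.S2249.result U.ι _
  have : Mono η := by
    have hsub : Subsingleton (Coh.HH X (kernel η) 1) :=
      subsingleton_H1 U R hfin hcl (support_kernel_subset U ω)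
    apply Preadditive.mono_of_kernel_zero
    exact (hω.2 _ (QC.isQCoh_kernel hω.1 hM η)).1
      (LinearMap.ext fun x => by rw [Subsingleton.elim x 0, map_zero, map_zero])
  have hS : (ShortComplex.mk η (cokernel.π η) (cokernel.condition η)).ShortExact :=
    { exact := ShortComplex.exact_of_g_is_cokernel _ (cokernelIsCokernel η) }
  have hsupp := support_cokernel_subset U ω
  let L : Coh.HH X ω 1 →ₗ[R] Coh.HH X (ext U ω) 1 := hhMap R η 1
  have hLsurj : Function.Surjective L := fun x =>
    (CohFinite.map_g_eq_zero_iff (shortExact_toAb hS) 1 x).1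
      ((subsingleton_H1 U R hfin hcl hsupp).elim _ _)
  have hker : LinearMap.ker L ≤ LinearMap.ker tr := by
    intro x hx
    obtain ⟨q, hq⟩ := (CohFinite.map_f_eq_zero_iff (shortExact_toAb hS) 0 x).1 hx
    obtain ⟨n, hn⟩ := exists_pow_smul_eq_zero U R hϖ hcl (QC.isQCoh_cokernel hω.1 hM η) hsupp q
    change tr x = 0
    have h0 : ϖ ^ n • tr (hhδ R hS 0 q) = 0 := by
      rw [← map_smul, ← map_smul, hn, map_zero, map_zero]
    rw [smul_eq_zero_iff_right (pow_ne_zero _ hϖ.ne_zero)] at h0
    rw [← hq]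
    exact h0
  let t : Coh.HH X (ext U ω) 1 →ₗ[R] R :=
    ((LinearMap.ker L).liftQ tr hker) ∘ₗ (L.quotKerEquivOfSurjective hLsurj).symm.toLinearMap
  obtain ⟨φ, hφ⟩ := (hω.2 _ hM).2 t
  have h1 : η ≫ φ = 𝟙 ω := by
    apply (hω.2 ω hω.1).1
    ext x
    have e1 : Canon.dualityMap R X 1 ω tr ω (η ≫ φ) x =
        Canon.dualityMap R X 1 ω tr (ext U ω) φ (L x) :=
      congrArg tr (CohFinite.hhMap_comp R η φ 1 x)
    have e2 : Canon.dualityMap R X 1 ω tr ω (𝟙 ω) x = tr x :=
      congrArg tr (CohFinite.hhMap_id R ω 1 x)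
    rw [e1, e2, hφ]
    have e3 : (L.quotKerEquivOfSurjective hLsurj).symm (L x) = Submodule.Quotient.mk x :=
      (LinearEquiv.symm_apply_eq _).2 (LinearMap.quotKerEquivOfSurjective_apply_mk L hLsurj x).symm
    simp only [t, LinearMap.comp_apply, LinearEquiv.coe_coe, e3, Submodule.liftQ_apply]
  have h2 : φ ≫ η = 𝟙 (ext U ω) := by
    rw [← sub_eq_zero]
    apply eq_zero_of_toExt_comp
    rw [Preadditive.comp_sub, ← Category.assoc, h1, Category.id_comp, Category.comp_id, sub_self]
  exact ⟨φ, h1, h2⟩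

theorem main {tr : Coh.HH X ω 1 →ₗ[R] R} (hω : Canon.IsRDualOver R X 1 ω tr)
    (hfin : ((U : Set X)ᶜ).Finite) (hcl : ∀ x : X, x ∉ U → IsClosed ({x} : Set X))
    (V : X.Opens) :
    Function.Bijective (ω.presheaf.map (homOfLE (inf_le_left : V ⊓ U ≤ V)).op).hom := by
  have := isIso_toExt U ω R hω hfin hcl
  have hb : Function.Bijective ((toExt U ω).app V) := ConcreteCategory.bijective_of_isIso _
  rw [Scheme.Modules.restrictAdjunction_unit_app_app] at hb
  have e : V ⊓ U = U.ι ''ᵁ U.ι ⁻¹ᵁ V := by
    rw [Scheme.Hom.image_preimage_eq_opensRange_inf, Scheme.Opens.opensRange_ι, inf_comm]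
  have h : (homOfLE (inf_le_left : V ⊓ U ≤ V)).op =
      (homOfLE (U.ι.image_preimage_le V)).op ≫ eqToHom (congrArg op e.symm) :=
    Subsingleton.elim _ _
  rw [h, Functor.map_comp, eqToHom_map, AddCommGrpCat.hom_comp, AddMonoidHom.coe_comp]
  exact (ConcreteCategory.bijective_of_isIso _).comp hb

end Groth.Agent.DualHartogs
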